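import Groth.Agent.AlgSpLib.GrpUnitDiag
import Groth.Agent.SpQS.QFAt
import Groth.Agent.SpQS.LftField
import Groth.Agent.AlgSpLib.Subspace
import Mathlib.CategoryTheory.Monoidal.Cartesian.Grp

/-!
A group algebraic space locally of finite type is quasi-finite at every point of a fibre as soon as it is
quasi-finite at the unit of that fibre.
-/

set_option backward.isDefEq.respectTransparency false

universe u

open CategoryTheory CategoryTheory.Limits AlgebraicGeometry MonoidalCategory CartesianMonoidalCategory MonObj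
open AlgSp IsLocalRing

namespace Groth.Agent.GrpQF

open Groth.Agent.AlgSpLib Groth.Agent.SpQS

section
variable {C : Type*} [Category C] [CartesianMonoidalCategory C] {G : C} [GrpObj G]

/-- translation by a section -/
theorem exists_translation {T : C} (cc : T ⟶ G) :
    ∃ Φ Ψ : T ⊗ G ⟶ T ⊗ G, Φ ≫ Ψ = 𝟙 _ ∧ Ψ ≫ Φ = 𝟙 _ ∧ Φ ≫ fst T G = fst T G ∧
      lift (𝟙 T) (1 : T ⟶ G) ≫ Φ = lift (𝟙 T) cc := by
  refine ⟨lift (fst T G) ((fst T G ≫ cc) * snd T G), lift (fst T G) ((fst T G ≫ cc)⁻¹ * snd T G), ?_, ?_, by simp, ?_⟩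
  · refine CartesianMonoidalCategory.hom_ext _ _ (by simp) ?_
    rw [Category.assoc, lift_snd, MonObj.comp_mul, GrpObj.comp_inv, lift_snd, lift_fst_assoc, Category.id_comp,
      inv_mul_cancel_left]
  · refine CartesianMonoidalCategory.hom_ext _ _ (by simp) ?_
    rw [Category.assoc, lift_snd, MonObj.comp_mul, lift_snd, lift_fst_assoc, Category.id_comp, mul_inv_cancel_left]
  · refine CartesianMonoidalCategory.hom_ext _ _ (by simp) ?_
    rw [Category.assoc, lift_snd, MonObj.comp_mul, lift_snd, lift_fst_assoc, lift_snd, Category.id_comp, _root_.mul_one]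

end

variable {S : Scheme.{u}}

theorem exists_geometric (T : Over S) (t : T.left) :
    ∃ (K : Type u) (_ : Field K) (_ : IsAlgClosed K) (str : Spec (CommRingCat.of K) ⟶ S) (m : Over.mk str ⟶ T),
      m.left (closedPoint K) = t :=
  ⟨AlgebraicClosure (T.left.residueField t), inferInstance, inferInstance,
    (Spec.map (CommRingCat.ofHom (algebraMap (T.left.residueField t)
      (AlgebraicClosure (T.left.residueField t)))) ≫ T.left.fromSpecResidueField t) ≫ T.hom,
    Over.homMk (Spec.map (CommRingCat.ofHom (algebraMap (T.left.residueField t)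
      (AlgebraicClosure (T.left.residueField t)))) ≫ T.left.fromSpecResidueField t) rfl,
    (Scheme.Hom.comp_apply _ _ _).trans (Scheme.fromSpecResidueField_apply t _)⟩

theorem qfAtPt_map_iso {X Y : Sp S} (f : X ⟶ Y) (τ : X ⟶ X) [IsIso τ] (hτ : τ ≫ f = f) (z : Points X)
    (h : QFAtPt f (Points.map τ z)) : QFAtPt f z := by
  intro U V a b h' u ha hb comm hu
  exact h U V (a ≫ τ) b h' u (repWith_comp ha (repWith_of_isIso τ)) hb (by rw [Category.assoc, hτ, comm])
    (by rw [← Points.map_ofPt, hu])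

theorem qfAtPt_of_unit {B : Sp S} (hB : IsAlgSpace B) (G : Over B) [GrpObj G] (hG : IsAlgSpace G.left)
    (hl : LocP @LocallyOfFiniteType G.hom) (x : Points G.left)
    (hx : QFAtPt G.hom (Points.map (η[G]).left (Points.map G.hom x))) : QFAtPt G.hom x := by
  obtain ⟨T, a, t, rfl⟩ := exists_ofPt x
  obtain ⟨K, _, _, str, m, hm⟩ := exists_geometric T t
  let σ := (yon S).map m ≫ a
  have hσx : Points.ofPt σ (closedPoint K) = Points.ofPt a t := by
    rw [ofPt_comp]
    exact congrArg (Points.ofPt a) hm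
  let T' : Over B := Over.mk (σ ≫ G.hom)
  have sq : IsPullback (snd T' G).left (fst T' G).left G.hom (σ ≫ G.hom) :=
    (IsPullback.of_hasPullback (σ ≫ G.hom) G.hom).flip
  let k := (yon S).obj (Over.mk str)
  have hk : IsAlgSpace k := IsAlgSpace.yon_obj _
  have hP : IsAlgSpace (T' ⊗ G).left := isAlgSpace_of_isPullback_space hB hG hk sq
  have hlk : LocP @LocallyOfFiniteType (fst T' G).left := locP_baseChange etST_lft hG hB hP hk sq hl
  have htr : ∀ cc : T' ⟶ G, QFAtPt (fst T' G).left (Points.ofPt (lift (𝟙 T') cc).left (closedPoint K)) := by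
    intro cc
    obtain ⟨Φ, Ψ, h1, h2, h3, h4⟩ := exists_translation cc
    have : IsIso Ψ := ⟨Φ, h2, h1⟩
    have : IsIso Ψ.left := inferInstanceAs (IsIso ((Over.forget B).map Ψ))
    have h5 : Ψ.left ≫ (fst T' G).left = (fst T' G).left := by
      have h : Ψ ≫ fst T' G = fst T' G :=
        (congrArg (Ψ ≫ ·) h3.symm).trans (by rw [← Category.assoc, h2, Category.id_comp])
      exact congrArg (fun q => q.left) h
    refine qfAtPt_map_iso _ Ψ.left h5 _ ?_
    rw [Points.map_ofPt, ← Over.comp_left, ← h4, Category.assoc, h1, Category.comp_id]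
    refine (qfAtPt_fibre_iff hG hB G.hom hl sq _).2 ?_
    rw [Points.map_ofPt, ← Over.comp_left, lift_snd, Hom.one_def, Over.comp_left, ← Points.map_ofPt]
    rw [← hσx, Points.map_ofPt σ G.hom] at hx
    have e : (toUnit T').left = σ ≫ G.hom := Over.toUnit_left
    exact (congrArg (fun q : T'.left ⟶ B => QFAtPt G.hom (Points.map (η[G]).left (Points.ofPt q (closedPoint K)))) e).mpr hx
  -- the quasi-finite locus contains all rational points, hence everything
  have hall : ∀ z, QFAtPt (fst T' G).left z := by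
    by_contra hne
    push Not at hne
    obtain ⟨z, hz⟩ := hne
    obtain ⟨W, π, hπ, hπs⟩ := hP.atlas
    obtain ⟨q, hq⟩ := exists_map_eq (π ≫ (fst T' G).left)
    have : LocallyOfFiniteType q.left :=
      hlk π (𝟙 _) q hπ repWith_id' (by rw [Category.comp_id, hq])
    obtain ⟨w, hw⟩ := ofPt_surjective hπs z
    have : JacobsonSpace W.left := LocallyOfFiniteType.jacobsonSpace (Y := Spec (CommRingCat.of K)) q.left
    obtain ⟨w₀, hw₀C, hw₀⟩ := nonempty_inter_closedPoints (X := W.left)
      (Z := Points.ofPt π ⁻¹' {z | QFAtPt (fst T' G).left z}ᶜ) ⟨w, by rw [Set.mem_preimage, hw]; exact hz⟩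
      ((isOpen_qfAtPt hP hk _ hlk).isClosed_compl.preimage (Points.continuous_ofPt π)).isLocallyClosed
    let n : Over.mk str ⟶ W := Over.homMk
      (pointOfClosedPoint (X := W.left) (K := K) q.left w₀ hw₀) (by
      show _ ≫ W.hom = str
      rw [← Over.w q]
      exact pointOfClosedPoint_comp_assoc (X := W.left) (K := K) q.left w₀ hw₀ str)
    have hnq : n ≫ q = 𝟙 _ := Over.OverMorphism.ext (pointOfClosedPoint_comp (X := W.left) (K := K) q.left w₀ hw₀)
    have hn : ((yon S).map n ≫ π) ≫ (fst T' G).left = 𝟙 _ := by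
      rw [Category.assoc, ← hq, ← Functor.map_comp, hnq]
      exact (yon S).map_id _
    let s : T' ⟶ T' ⊗ G := Over.homMk ((yon S).map n ≫ π) (by
      show ((yon S).map n ≫ π) ≫ (T' ⊗ G).hom = _
      rw [← Over.w (fst T' G), ← Category.assoc, hn, Category.id_comp])
    have hs : s = lift (𝟙 T') (s ≫ snd T' G) := by
      refine CartesianMonoidalCategory.hom_ext _ _ ?_ (by simp)
      rw [lift_fst]
      exact Over.OverMorphism.ext hn
    have h6 := htr (s ≫ snd T' G)
    rw [← hs] at h6
    refine hw₀C ?_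
    have e : Points.ofPt s.left (closedPoint K) = Points.ofPt π w₀ := by
      show Points.ofPt ((yon S).map n ≫ π) (closedPoint K) = _
      rw [ofPt_comp]
      exact congrArg (Points.ofPt π) (by simp [n])
    rwa [e] at h6
  let c₀ : T' ⟶ G := Over.homMk σ rfl
  have := (qfAtPt_fibre_iff hG hB G.hom hl sq _).1 (hall (Points.ofPt (lift (𝟙 T') c₀).left (closedPoint K)))
  rw [Points.map_ofPt, ← Over.comp_left, lift_snd] at this
  rw [← hσx]
  exact this

/-- quasi-finiteness at a point commutes with base change -/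
theorem qfAtPt_baseChange_iff {X Y X' Y' : Sp S} (hX : IsAlgSpace X) (hY : IsAlgSpace Y) (hY' : IsAlgSpace Y')
    (f : X ⟶ Y) (hf : LocP @LocallyOfFiniteType f) {g : Y' ⟶ Y} {p₁ : X' ⟶ X} {p₂ : X' ⟶ Y'}
    (sq : IsPullback p₁ p₂ f g) (x : Points X') : QFAtPt p₂ x ↔ QFAtPt f (Points.map p₁ x) := by
  have hX' : IsAlgSpace X' := isAlgSpace_of_isPullback_space hY hX hY' sq
  have hl' : LocP @LocallyOfFiniteType p₂ := locP_baseChange etST_lft hX hY hX' hY' sq hf
  obtain ⟨T, a, t, rfl⟩ := exists_ofPt x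
  let y : (yon S).obj (Over.mk (T.left.fromSpecResidueField t ≫ T.hom)) ⟶ Y' :=
    (yon S).map (Over.homMk (T.left.fromSpecResidueField t) rfl :
      Over.mk (T.left.fromSpecResidueField t ≫ T.hom) ⟶ T) ≫ a ≫ p₂
  have sq₁ := IsPullback.of_hasPullback p₂ y
  have sq₂ := sq₁.paste_horiz sq
  obtain ⟨p, hp, -⟩ := exists_point_of_isPullback sq₁ (Points.ofPt a t)
    (Points.ofScheme (Over.mk (T.left.fromSpecResidueField t ≫ T.hom)) (closedPoint _)) (by
      rw [Points.map_ofPt, ← Points.ofPt_eq_map_ofScheme]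
      show _ = Points.ofPt ((yon S).map _ ≫ a ≫ p₂) _
      rw [ofPt_comp]
      exact congrArg (Points.ofPt _) (Scheme.fromSpecResidueField_apply _ _).symm)
  rw [← hp, ← qfAtPt_fibre_iff hX' hY' p₂ hl' sq₁ p, ← Points.map_comp, qfAtPt_fibre_iff hX hY f hf sq₂ p]

/-- the locus of the base where the group is quasi-finite at the unit -/
def locus {B : Sp S} (G : Over B) [GrpObj G] : Set (Points B) :=
  Points.map (η[G]).left ⁻¹' {x | QFAtPt G.hom x}

theorem isOpen_locus {B : Sp S} (hB : IsAlgSpace B) (G : Over B) [GrpObj G] (hG : IsAlgSpace G.left)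
    (hl : LocP @LocallyOfFiniteType G.hom) : IsOpen (locus G) :=
  (isOpen_qfAtPt hG hB G.hom hl).preimage (Points.continuous_map _)

theorem lqf_iff_range {B : Sp S} (hB : IsAlgSpace B) (G : Over B) [GrpObj G] (hG : IsAlgSpace G.left)
    (hl : LocP @LocallyOfFiniteType G.hom) {B' P : Sp S} (hB' : IsAlgSpace B') {f : B' ⟶ B} {p₁ : P ⟶ G.left}
    {p₂ : P ⟶ B'} (sq : IsPullback p₁ p₂ G.hom f) :
    LocP (@LocallyQuasiFinite ⊓ @LocallyOfFiniteType) p₂ ↔ Set.range (Points.map f) ⊆ locus G := by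
  have hP : IsAlgSpace P := isAlgSpace_of_isPullback_space hB hG hB' sq
  have hl' : LocP @LocallyOfFiniteType p₂ := locP_baseChange etST_lft hG hB hP hB' sq hl
  rw [locP_lqf_iff p₂ hl']
  constructor
  · rintro h _ ⟨b, rfl⟩
    have he : (η[G]).left ≫ G.hom = 𝟙 B := Over.w η[G]
    let s : B' ⟶ P := sq.lift (f ≫ (η[G]).left) (𝟙 _) (by rw [Category.assoc, he, Category.id_comp, Category.comp_id])
    have h2 := (qfAtPt_baseChange_iff hG hB hB' G.hom hl sq _).1 (h (Points.map s b))
    rw [← Points.map_comp, show s ≫ p₁ = _ from sq.lift_fst _ _ _, Points.map_comp] at h2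
    exact h2
  · intro h x
    refine (qfAtPt_baseChange_iff hG hB hB' G.hom hl sq x).2 (qfAtPt_of_unit hB G hG hl _ ?_)
    rw [← Points.map_comp p₁, sq.w, Points.map_comp]
    exact h ⟨_, rfl⟩

end Groth.Agent.GrpQF
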